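import Cfsg.Agent.H16.T.Fi24.C0
import Cfsg.Agent.H16.T.Fi24.C1
import Cfsg.Agent.H16.T.Fi24.C2
import Cfsg.Agent.H16.T.Fi24.C3

/-! Generated by tools/h16 (computation kit). -/

set_option maxRecDepth 100000
set_option maxHeartbeats 0
set_option Elab.async false

namespace H16.TFi24

open H26 (jn)
theorem sj0 : ∀ i < 19, (slJ H26.F24.T 19 (nth [] Ws 0) (nth (BT.leaf 0) Ts 0)) i = 0 := allZ_sound0 sj0_0
theorem sl0 : slChk H26.F24.T 19 (nth [] Ws 0) (nth (BT.leaf 0) Ts 0) = true := slChk_of sj0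
theorem sj1 : ∀ i < 19, (slJ H26.F24.T 19 (nth [] Ws 1) (nth (BT.leaf 0) Ts 1)) i = 0 := allZ_sound0 sj1_0
theorem sl1 : slChk H26.F24.T 19 (nth [] Ws 1) (nth (BT.leaf 0) Ts 1) = true := slChk_of sj1
theorem sj2 : ∀ i < 19, (slJ H26.F24.T 19 (nth [] Ws 2) (nth (BT.leaf 0) Ts 2)) i = 0 := allZ_sound0 sj2_0
theorem sl2 : slChk H26.F24.T 19 (nth [] Ws 2) (nth (BT.leaf 0) Ts 2) = true := slChk_of sj2
theorem sj3 : ∀ i < 19, (slJ H26.F24.T 19 (nth [] Ws 3) (nth (BT.leaf 0) Ts 3)) i = 0 := allZ_sound0 sj3_0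
theorem sl3 : slChk H26.F24.T 19 (nth [] Ws 3) (nth (BT.leaf 0) Ts 3) = true := slChk_of sj3
theorem sj4 : ∀ i < 19, (slJ H26.F24.T 19 (nth [] Ws 4) (nth (BT.leaf 0) Ts 4)) i = 0 := allZ_sound0 sj4_0
theorem sl4 : slChk H26.F24.T 19 (nth [] Ws 4) (nth (BT.leaf 0) Ts 4) = true := slChk_of sj4
theorem sj5 : ∀ i < 19, (slJ H26.F24.T 19 (nth [] Ws 5) (nth (BT.leaf 0) Ts 5)) i = 0 := allZ_sound0 sj5_0
theorem sl5 : slChk H26.F24.T 19 (nth [] Ws 5) (nth (BT.leaf 0) Ts 5) = true := slChk_of sj5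
theorem sj6 : ∀ i < 19, (slJ H26.F24.T 19 (nth [] Ws 6) (nth (BT.leaf 0) Ts 6)) i = 0 := allZ_sound0 sj6_0
theorem sl6 : slChk H26.F24.T 19 (nth [] Ws 6) (nth (BT.leaf 0) Ts 6) = true := slChk_of sj6
theorem sj7 : ∀ i < 19, (slJ H26.F24.T 19 (nth [] Ws 7) (nth (BT.leaf 0) Ts 7)) i = 0 := allZ_sound0 sj7_0
theorem sl7 : slChk H26.F24.T 19 (nth [] Ws 7) (nth (BT.leaf 0) Ts 7) = true := slChk_of sj7
theorem sj8 : ∀ i < 19, (slJ H26.F24.T 19 (nth [] Ws 8) (nth (BT.leaf 0) Ts 8)) i = 0 := allZ_sound0 sj8_0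
theorem sl8 : slChk H26.F24.T 19 (nth [] Ws 8) (nth (BT.leaf 0) Ts 8) = true := slChk_of sj8
theorem sj9 : ∀ i < 19, (slJ H26.F24.T 19 (nth [] Ws 9) (nth (BT.leaf 0) Ts 9)) i = 0 := allZ_sound0 sj9_0
theorem sl9 : slChk H26.F24.T 19 (nth [] Ws 9) (nth (BT.leaf 0) Ts 9) = true := slChk_of sj9
theorem sj10 : ∀ i < 19, (slJ H26.F24.T 19 (nth [] Ws 10) (nth (BT.leaf 0) Ts 10)) i = 0 := allZ_sound0 sj10_0
theorem sl10 : slChk H26.F24.T 19 (nth [] Ws 10) (nth (BT.leaf 0) Ts 10) = true := slChk_of sj10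
theorem sj11 : ∀ i < 19, (slJ H26.F24.T 19 (nth [] Ws 11) (nth (BT.leaf 0) Ts 11)) i = 0 := allZ_sound0 sj11_0
theorem sl11 : slChk H26.F24.T 19 (nth [] Ws 11) (nth (BT.leaf 0) Ts 11) = true := slChk_of sj11
theorem sj12 : ∀ i < 19, (slJ H26.F24.T 19 (nth [] Ws 12) (nth (BT.leaf 0) Ts 12)) i = 0 := allZ_sound0 sj12_0
theorem sl12 : slChk H26.F24.T 19 (nth [] Ws 12) (nth (BT.leaf 0) Ts 12) = true := slChk_of sj12
theorem sj13 : ∀ i < 19, (slJ H26.F24.T 19 (nth [] Ws 13) (nth (BT.leaf 0) Ts 13)) i = 0 := allZ_sound0 sj13_0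
theorem sl13 : slChk H26.F24.T 19 (nth [] Ws 13) (nth (BT.leaf 0) Ts 13) = true := slChk_of sj13
theorem sj14 : ∀ i < 19, (slJ H26.F24.T 19 (nth [] Ws 14) (nth (BT.leaf 0) Ts 14)) i = 0 := allZ_sound0 sj14_0
theorem sl14 : slChk H26.F24.T 19 (nth [] Ws 14) (nth (BT.leaf 0) Ts 14) = true := slChk_of sj14
theorem sj15_g0 : ∀ i < 2, (slJ H26.F24.T 19 (nth [] Ws 15) (nth (BT.leaf 0) Ts 15)) i = 0 := allZ_sound0 sj15_0
theorem sj15_g1 : ∀ i < 4, (slJ H26.F24.T 19 (nth [] Ws 15) (nth (BT.leaf 0) Ts 15)) i = 0 := range_glue sj15_g0 sj15_1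
theorem sj15_g2 : ∀ i < 6, (slJ H26.F24.T 19 (nth [] Ws 15) (nth (BT.leaf 0) Ts 15)) i = 0 := range_glue sj15_g1 sj15_2
theorem sj15_g3 : ∀ i < 8, (slJ H26.F24.T 19 (nth [] Ws 15) (nth (BT.leaf 0) Ts 15)) i = 0 := range_glue sj15_g2 sj15_3
theorem sj15_g4 : ∀ i < 10, (slJ H26.F24.T 19 (nth [] Ws 15) (nth (BT.leaf 0) Ts 15)) i = 0 := range_glue sj15_g3 sj15_4
theorem sj15_g5 : ∀ i < 12, (slJ H26.F24.T 19 (nth [] Ws 15) (nth (BT.leaf 0) Ts 15)) i = 0 := range_glue sj15_g4 sj15_5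
theorem sj15_g6 : ∀ i < 14, (slJ H26.F24.T 19 (nth [] Ws 15) (nth (BT.leaf 0) Ts 15)) i = 0 := range_glue sj15_g5 sj15_6
theorem sj15_g7 : ∀ i < 16, (slJ H26.F24.T 19 (nth [] Ws 15) (nth (BT.leaf 0) Ts 15)) i = 0 := range_glue sj15_g6 sj15_7
theorem sj15_g8 : ∀ i < 18, (slJ H26.F24.T 19 (nth [] Ws 15) (nth (BT.leaf 0) Ts 15)) i = 0 := range_glue sj15_g7 sj15_8
theorem sj15 : ∀ i < 19, (slJ H26.F24.T 19 (nth [] Ws 15) (nth (BT.leaf 0) Ts 15)) i = 0 := range_glue sj15_g8 sj15_9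
theorem sl15 : slChk H26.F24.T 19 (nth [] Ws 15) (nth (BT.leaf 0) Ts 15) = true := slChk_of sj15
theorem sj16_g0 : ∀ i < 2, (slJ H26.F24.T 19 (nth [] Ws 16) (nth (BT.leaf 0) Ts 16)) i = 0 := allZ_sound0 sj16_0
theorem sj16_g1 : ∀ i < 4, (slJ H26.F24.T 19 (nth [] Ws 16) (nth (BT.leaf 0) Ts 16)) i = 0 := range_glue sj16_g0 sj16_1
theorem sj16_g2 : ∀ i < 6, (slJ H26.F24.T 19 (nth [] Ws 16) (nth (BT.leaf 0) Ts 16)) i = 0 := range_glue sj16_g1 sj16_2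
theorem sj16_g3 : ∀ i < 8, (slJ H26.F24.T 19 (nth [] Ws 16) (nth (BT.leaf 0) Ts 16)) i = 0 := range_glue sj16_g2 sj16_3
theorem sj16_g4 : ∀ i < 10, (slJ H26.F24.T 19 (nth [] Ws 16) (nth (BT.leaf 0) Ts 16)) i = 0 := range_glue sj16_g3 sj16_4
theorem sj16_g5 : ∀ i < 12, (slJ H26.F24.T 19 (nth [] Ws 16) (nth (BT.leaf 0) Ts 16)) i = 0 := range_glue sj16_g4 sj16_5
theorem sj16_g6 : ∀ i < 14, (slJ H26.F24.T 19 (nth [] Ws 16) (nth (BT.leaf 0) Ts 16)) i = 0 := range_glue sj16_g5 sj16_6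
theorem sj16_g7 : ∀ i < 16, (slJ H26.F24.T 19 (nth [] Ws 16) (nth (BT.leaf 0) Ts 16)) i = 0 := range_glue sj16_g6 sj16_7
theorem sj16_g8 : ∀ i < 18, (slJ H26.F24.T 19 (nth [] Ws 16) (nth (BT.leaf 0) Ts 16)) i = 0 := range_glue sj16_g7 sj16_8
theorem sj16 : ∀ i < 19, (slJ H26.F24.T 19 (nth [] Ws 16) (nth (BT.leaf 0) Ts 16)) i = 0 := range_glue sj16_g8 sj16_9
theorem sl16 : slChk H26.F24.T 19 (nth [] Ws 16) (nth (BT.leaf 0) Ts 16) = true := slChk_of sj16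
theorem act : Act g id P 306936 17 := act_sl H16.F24.wf hd (all_succ (all_succ (all_succ (all_succ (all_succ (all_succ (all_succ (all_succ (all_succ (all_succ (all_succ (all_succ (all_succ (all_succ (all_succ (all_succ (all_succ all_zero sl0) sl1) sl2) sl3) sl4) sl5) sl6) sl7) sl8) sl9) sl10) sl11) sl12) sl13) sl14) sl15) sl16)
theorem inj : PtInj (id : ℕ → ℕ) 306936 := fun _ _ _ _ e => e
theorem gen_eq : gen g 17 = F24.A := F24.gen_eq sg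
theorem card : Nat.card (gen g 17) = 1255205709190661721292800 := gen_eq ▸ H16.F24.card
theorem simple : IsSimpleGroup (gen g 17) := gen_eq ▸ H16.F24.simple
theorem olv0 (a : ℕ) : (lv0 a).Orb g id 306936 :=
  Lv.orb_trans (l := lv0 a) H16.F24.trans ((gen_wds_eq sg0).trans gen_eq) ⟨rfl, rfl⟩ fun _ => Nat.succ_ne_zero _
theorem olv1 (a : ℕ) : (lv1 a).Orb g id 306936 := Lv.orb_mskX H16.F24.wf (RSub.step H16.F24.wf (RSub.zero _ _ _) rlv1_0) clv1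
theorem olv2 (a : ℕ) : (lv2 a).Orb g id 306936 := Lv.orb_mskX H16.F24.wf (RSub.step H16.F24.wf (RSub.zero _ _ _) rlv2_0) clv2
theorem okv0 (a : ℕ) : (kv0 a).Orb g id 306936 := Lv.orb_mskX H16.F24.wf (RSub.step H16.F24.wf (RSub.step H16.F24.wf (RSub.step H16.F24.wf (RSub.step H16.F24.wf (RSub.step H16.F24.wf (RSub.step H16.F24.wf (RSub.step H16.F24.wf (RSub.step H16.F24.wf (RSub.step H16.F24.wf (RSub.zero _ _ _) rkv0_0) rkv0_1) rkv0_2) rkv0_3) rkv0_4) rkv0_5) rkv0_6) rkv0_7) rkv0_8) ckv0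
theorem okv1 (a : ℕ) : (kv1 a).Orb g id 306936 := Lv.orb_mskX H16.F24.wf (RSub.step H16.F24.wf (RSub.step H16.F24.wf (RSub.step H16.F24.wf (RSub.step H16.F24.wf (RSub.step H16.F24.wf (RSub.step H16.F24.wf (RSub.step H16.F24.wf (RSub.step H16.F24.wf (RSub.zero _ _ _) rkv1_0) rkv1_1) rkv1_2) rkv1_3) rkv1_4) rkv1_5) rkv1_6) rkv1_7) ckv1
theorem okv2 (a : ℕ) : (kv2 a).Orb g id 306936 := Lv.orb_mskX H16.F24.wf (RSub.step H16.F24.wf (RSub.step H16.F24.wf (RSub.step H16.F24.wf (RSub.step H16.F24.wf (RSub.step H16.F24.wf (RSub.step H16.F24.wf (RSub.step H16.F24.wf (RSub.step H16.F24.wf (RSub.step H16.F24.wf (RSub.step H16.F24.wf (RSub.step H16.F24.wf (RSub.step H16.F24.wf (RSub.zero _ _ _) rkv2_0) rkv2_1) rkv2_2) rkv2_3) rkv2_4) rkv2_5) rkv2_6) rkv2_7) rkv2_8) rkv2_9) rkv2_10) rkv2_11) ckv2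
theorem isBase : IsBase (gen g 17) id B := (exC_sub act inj le_rfl card (all_cons (olv0 0) (all_cons (olv1 0) (all_cons (olv2 0) (all_cons (okv0 0) (all_cons (okv1 0) (all_cons (okv2 0) all_nil)))))) lc).2.2
theorem okw0 (a : ℕ) : (kw0 a).Orb g id 306936 := Lv.orb_mskX H16.F24.wf (RSub.step H16.F24.wf (RSub.step H16.F24.wf (RSub.step H16.F24.wf (RSub.step H16.F24.wf (RSub.step H16.F24.wf (RSub.step H16.F24.wf (RSub.step H16.F24.wf (RSub.step H16.F24.wf (RSub.step H16.F24.wf (RSub.step H16.F24.wf (RSub.step H16.F24.wf (RSub.step H16.F24.wf (RSub.step H16.F24.wf (RSub.step H16.F24.wf (RSub.zero _ _ _) rkw0_0) rkw0_1) rkw0_2) rkw0_3) rkw0_4) rkw0_5) rkw0_6) rkw0_7) rkw0_8) rkw0_9) rkw0_10) rkw0_11) rkw0_12) rkw0_13) ckw0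
theorem okw1 (a : ℕ) : (kw1 a).Orb g id 306936 := Lv.orb_mskX H16.F24.wf (RSub.step H16.F24.wf (RSub.step H16.F24.wf (RSub.step H16.F24.wf (RSub.step H16.F24.wf (RSub.step H16.F24.wf (RSub.step H16.F24.wf (RSub.step H16.F24.wf (RSub.step H16.F24.wf (RSub.step H16.F24.wf (RSub.step H16.F24.wf (RSub.step H16.F24.wf (RSub.step H16.F24.wf (RSub.step H16.F24.wf (RSub.step H16.F24.wf (RSub.step H16.F24.wf (RSub.step H16.F24.wf (RSub.step H16.F24.wf (RSub.step H16.F24.wf (RSub.step H16.F24.wf (RSub.step H16.F24.wf (RSub.zero _ _ _) rkw1_0) rkw1_1) rkw1_2) rkw1_3) rkw1_4) rkw1_5) rkw1_6) rkw1_7) rkw1_8) rkw1_9) rkw1_10) rkw1_11) rkw1_12) rkw1_13) rkw1_14) rkw1_15) rkw1_16) rkw1_17) rkw1_18) rkw1_19) ckw1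
theorem okw2 (a : ℕ) : (kw2 a).Orb g id 306936 := Lv.orb_mskX H16.F24.wf (RSub.step H16.F24.wf (RSub.step H16.F24.wf (RSub.step H16.F24.wf (RSub.step H16.F24.wf (RSub.step H16.F24.wf (RSub.step H16.F24.wf (RSub.step H16.F24.wf (RSub.zero _ _ _) rkw2_0) rkw2_1) rkw2_2) rkw2_3) rkw2_4) rkw2_5) rkw2_6) ckw2

end H16.TFi24
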